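import Groth.Agent.H8Props.CompDecomp.Ring
import Groth.Agent.H7Lim.Topology
import Groth.Agent.H28Top.Spectral
import Groth.Agent.H7Lim.Descend

/-! Completely decomposed morphisms locally of finite presentation descend to a stage. -/

set_option autoImplicit false
set_option backward.isDefEq.respectTransparency false
set_option backward.defeqAttrib.useBackward true
set_option linter.style.haveILetI false

universe u

open CategoryTheory Limits AlgebraicGeometry TopologicalSpace Topology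

namespace Groth.Agent.H8Props.CompDecomp

variable {X₀ Y₀ Y Y' : Scheme.{u}} (f₀ : X₀ ⟶ Y₀)

/-- A point with a lift having the same residue field. -/
def HasPoint (p : Y ⟶ Y₀) (y : Y) : Prop :=
  ∃ σ : Spec (Y.residueField y) ⟶ X₀, σ ≫ f₀ = Y.fromSpecResidueField y ≫ p

theorem hasPoint_comp (p : Y ⟶ Y₀) (h : Y' ⟶ Y) (y : Y') (hy : HasPoint f₀ p (h y)) :
    HasPoint f₀ (h ≫ p) y := by
  obtain ⟨σ, hσ⟩ := hy
  refine ⟨Spec.map (h.residueFieldMap y) ≫ σ, ?_⟩
  rw [Category.assoc, hσ, ← Category.assoc, h.SpecMap_residueFieldMap_fromSpecResidueField,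
    Category.assoc]

/-- The residue field at a point of an affine chart. -/
theorem exists_residue_iso {A : CommRingCat.{u}} (j : Spec A ⟶ Y) [IsOpenImmersion j]
    (q : PrimeSpectrum A) :
    ∃ τ : Y.residueField (j q) ⟶ CommRingCat.of q.asIdeal.ResidueField, IsIso τ ∧
      Spec.map τ ≫ Y.fromSpecResidueField (j q) =
        Spec.map (CommRingCat.ofHom (algebraMap A q.asIdeal.ResidueField)) ≫ j := by
  refine ⟨j.residueFieldMap q ≫ (Scheme.Spec.residueFieldIso A q).hom, inferInstance, ?_⟩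
  rw [Spec.map_comp, Category.assoc, j.SpecMap_residueFieldMap_fromSpecResidueField,
    ← Scheme.Spec.map_residueFieldIso_inv_eq_fromSpecResidueField, ← Category.assoc,
    ← Category.assoc, ← Spec.map_comp, ← Spec.map_comp]
  exact congrArg (fun m => Spec.map m ≫ j)
    ((congrArg (CommRingCat.ofHom (algebraMap A q.asIdeal.ResidueField) ≫ ·)
      (Scheme.Spec.residueFieldIso A q).inv_hom_id).trans (Category.comp_id _))

theorem bijective_residueFieldMap_of_point {Z : Scheme.{u}} (f : Z ⟶ Y) (y : Y)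
    (σ : Spec (Y.residueField y) ⟶ Z) (hσ : σ ≫ f = Y.fromSpecResidueField y) :
    ∃ z : Z, f z = y ∧ Function.Bijective (f.residueFieldMap z) := by
  obtain ⟨⟨z, τ⟩, hzτ⟩ := (Scheme.SpecToEquivOfField (Y.residueField y) Z).symm.surjective σ
  rw [Scheme.SpecToEquivOfField_symm_apply] at hzτ
  subst hzτ
  have hz : f z = y := by
    have := congrArg (fun m : Spec (Y.residueField y) ⟶ Y => m (IsLocalRing.closedPoint _)) hσ
    simp only [Scheme.Hom.comp_apply] at this
    exact ((congrArg (fun w => f w) (Scheme.fromSpecResidueField_apply z _)).symm.trans this).trans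
      (Scheme.fromSpecResidueField_apply y _)
  subst hz
  refine ⟨z, rfl, ?_⟩
  have h : f.residueFieldMap z ≫ τ = 𝟙 _ := by
    apply Spec.map_injective
    rw [← cancel_mono (Y.fromSpecResidueField (f z)),
      Spec.map_comp, Category.assoc, f.SpecMap_residueFieldMap_fromSpecResidueField]
    refine ((Category.assoc _ _ _).symm.trans hσ).trans ?_
    exact ((congrArg (· ≫ _) (Spec.map_id _)).trans (Category.id_comp _)).symm
  have hl : Function.LeftInverse τ (f.residueFieldMap z) := fun r =>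
    (ConcreteCategory.congr_hom h r)
  exact ⟨hl.injective, fun s => ⟨τ s, τ.hom.injective (hl (τ s))⟩⟩

theorem hasPoint_of_bijective {Z : Scheme.{u}} (f : Z ⟶ Y) (q : Z ⟶ X₀) (p : Y ⟶ Y₀)
    (w : q ≫ f₀ = f ≫ p) (z : Z) (hz : Function.Bijective (f.residueFieldMap z)) :
    HasPoint f₀ p (f z) := by
  haveI : IsIso (f.residueFieldMap z) := (ConcreteCategory.isIso_iff_bijective _).mpr hz
  refine ⟨inv (Spec.map (f.residueFieldMap z)) ≫ Z.fromSpecResidueField z ≫ q, ?_⟩
  rw [Category.assoc, IsIso.inv_comp_eq, Category.assoc, w, ← Category.assoc, ← Category.assoc,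
    f.SpecMap_residueFieldMap_fromSpecResidueField]

variable {I : Type u} [Category.{u} I] [IsCofiltered I] {D : I ⥤ Scheme.{u}} {c : Cone D}
  [∀ (i j : I) (f : i ⟶ j), IsAffineHom (D.map f)]

/-- Near a point of the limit with a point, a stage has a constructible set of points with points. -/
theorem exists_stage_constructible [LocallyOfFinitePresentation f₀] (hc : IsLimit c) (i : I)
    [QuasiSeparatedSpace (D.obj i)] (p : D.obj i ⟶ Y₀) (y : c.pt)
    (hy : HasPoint (Y := c.pt) f₀ (c.π.app i ≫ p) y) :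
    ∃ (j : I) (φ : j ⟶ i) (C : Set (D.obj j)), IsConstructible C ∧ c.π.app j y ∈ C ∧
      ∀ z ∈ C, HasPoint f₀ (D.map φ ≫ p) z := by
  classical
  obtain ⟨σ, hσ⟩ := hy
  let x₀ := σ (IsLocalRing.closedPoint _)
  obtain ⟨W, hW, hxW, -⟩ := exists_isAffineOpen_mem_and_subset (x := f₀ x₀) (U := (⊤ : Y₀.Opens))
    (Opens.mem_top _)
  obtain ⟨O, hO, hxO, hOW⟩ := exists_isAffineOpen_mem_and_subset (x := x₀) (U := f₀ ⁻¹ᵁ W) hxW
  have hpy : p (c.π.app i y) = f₀ x₀ := by
    have := congrArg (fun m : Spec (c.pt.residueField y) ⟶ Y₀ => m (IsLocalRing.closedPoint _)) hσ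
    simp only [Scheme.Hom.comp_apply] at this
    refine Eq.trans ?_ this.symm
    exact congrArg (fun w => p (c.π.app i w)) (c.pt.fromSpecResidueField_apply y _).symm
  obtain ⟨V, hV, hyV, hVW⟩ := exists_isAffineOpen_mem_and_subset (x := c.π.app i y)
    (U := p ⁻¹ᵁ W) (by show p _ ∈ W; rw [hpy]; exact hxW)
  let E := opensDiagram D i V
  haveI : ∀ j, IsAffine (E.obj j) := fun j => hV.preimage (D.map j.hom)
  haveI : ∀ {j k : Over i} (f : j ⟶ k), IsAffineHom (E.map f) := fun f => isAffineHom_of_isAffine _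
  let d := opensCone D c i V
  have hd := isLimitOpensCone D c hc i V
  haveI := isAffineHom_π_app D c hc i
  haveI : IsAffine d.pt := hV.preimage (c.π.app i)
  -- the affine charts
  let jl : Spec Γ(d.pt, ⊤) ⟶ c.pt := d.pt.isoSpec.inv ≫ (c.π.app i ⁻¹ᵁ V).ι
  let js : ∀ k : Over i, Spec Γ(E.obj k, ⊤) ⟶ D.obj k.left := fun k =>
    (E.obj k).isoSpec.inv ≫ (D.map k.hom ⁻¹ᵁ V).ι
  let πT : ∀ k : Over i, Γ(E.obj k, ⊤) ⟶ Γ(d.pt, ⊤) := fun k => (d.π.app k).appTop
  have hjs : ∀ k, Spec.map (πT k) ≫ js k = jl ≫ c.π.app k.left := fun k => by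
    refine (Scheme.isoSpec_inv_naturality_assoc (show d.pt ⟶ E.obj k from d.π.app k) (D.map k.hom ⁻¹ᵁ V).ι).trans ?_
    exact (congrArg (d.pt.isoSpec.inv ≫ ·) (Scheme.Hom.resLE_comp_ι _ _)).trans
      (Category.assoc _ _ _).symm
  have hπT : ∀ {k l : Over i} (v : k ⟶ l) (x : Γ(E.obj l, ⊤)),
      πT k ((E.map v).appTop x) = πT l x := fun {k l} v x => by
    show ((E.map v).appTop ≫ (d.π.app k).appTop) x = _
    rw [← Scheme.Hom.comp_appTop, d.w]
    rfl
  have hrange : ∀ k : Over i, Set.range (js k ≫ D.map k.hom ≫ p) ⊆ Set.range hW.fromSpec := fun k => by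
    rw [hW.range_fromSpec]
    rintro _ ⟨z, rfl⟩
    exact hVW ((E.obj k).isoSpec.inv z).2
  let α : ∀ k, Γ(Y₀, W) ⟶ Γ(E.obj k, ⊤) := fun k =>
    Spec.preimage (IsOpenImmersion.lift hW.fromSpec _ (hrange k))
  have hα : ∀ k, Spec.map (α k) ≫ hW.fromSpec = js k ≫ D.map k.hom ≫ p := fun k => by
    simp only [α, Spec.map_preimage, IsOpenImmersion.lift_fac]
  let k₀ : Over i := Over.mk (𝟙 i)
  let αl : Γ(Y₀, W) ⟶ Γ(d.pt, ⊤) := α k₀ ≫ (πT k₀)
  have hαl : Spec.map αl ≫ hW.fromSpec = jl ≫ c.π.app i ≫ p := by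
    rw [Spec.map_comp, Category.assoc, hα, ← Category.assoc, hjs, Category.assoc]
    simp [k₀]
  have hαk : ∀ k, α k ≫ (πT k) = αl := fun k => by
    apply Spec.map_injective
    rw [← cancel_mono hW.fromSpec, hαl, Spec.map_comp, Category.assoc, hα, ← Category.assoc, hjs,
      Category.assoc]
    rw [← Category.assoc (c.π.app k.left), c.w]
  -- the point in the limit
  obtain ⟨q, hq⟩ : ∃ q : PrimeSpectrum Γ(d.pt, ⊤), jl q = y := by
    refine ⟨d.pt.isoSpec.hom ⟨y, hyV⟩, ?_⟩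
    show ((d.pt.isoSpec.hom ≫ d.pt.isoSpec.inv) ≫ Scheme.Opens.ι _) ⟨y, hyV⟩ = y
    rw [Iso.hom_inv_id, Category.id_comp]
    rfl
  subst hq
  obtain ⟨τ, hτiso, hτ⟩ := exists_residue_iso jl q
  let Bc := Γ(X₀, O)
  letI : Algebra Γ(Y₀, W) Bc := (f₀.appLE W O hOW).hom.toAlgebra
  haveI : Algebra.FinitePresentation Γ(Y₀, W) Bc := f₀.finitePresentation_appLE hW hO hOW
  have hrσ : Set.range (Spec.map τ ≫ σ) ⊆ Set.range hO.fromSpec := by
    rw [hO.range_fromSpec]
    rintro _ ⟨z, rfl⟩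
    rw [Scheme.Hom.comp_apply, show Spec.map τ z = IsLocalRing.closedPoint _ from
      Subsingleton.elim _ _]
    exact hxO
  let ψc : Bc ⟶ CommRingCat.of q.asIdeal.ResidueField :=
    Spec.preimage (IsOpenImmersion.lift hO.fromSpec _ hrσ)
  have hψc : f₀.appLE W O hOW ≫ ψc = αl ≫ CommRingCat.ofHom (algebraMap Γ(d.pt, ⊤) q.asIdeal.ResidueField) := by
    apply Spec.map_injective
    rw [← cancel_mono hW.fromSpec, Spec.map_comp, Category.assoc,
      IsAffineOpen.SpecMap_appLE_fromSpec f₀ hW hO hOW, ← Category.assoc]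
    simp only [ψc, Spec.map_preimage, IsOpenImmersion.lift_fac]
    rw [Category.assoc, hσ, ← Category.assoc, hτ, Spec.map_comp]
    exact (Category.assoc _ _ _).trans ((congrArg (Spec.map _ ≫ ·) hαl.symm).trans (Category.assoc _ _ _).symm)
  -- finitely many functions come from a stage
  obtain ⟨n, φ, hφ, -⟩ := Algebra.FinitePresentation.out (R := Γ(Y₀, W)) (A := Bc)
  have hsurj : ∀ s : Γ(d.pt, ⊤), ∃ (k : Over i) (t : Γ(E.obj k, ⊤)), (πT k) t = s :=
    fun s => exists_appTop_π_eq_of_isAffine_of_isLimit E d hd s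
  have hcoord : ∀ m : Fin n, ∃ (k : Over i) (a e : Γ(E.obj k, ⊤)),
      (πT k) e ∉ q.asIdeal ∧
      algebraMap _ q.asIdeal.ResidueField ((πT k) e) * ψc (φ (MvPolynomial.X m)) =
        algebraMap _ q.asIdeal.ResidueField ((πT k) a) := fun m => by
    obtain ⟨a, e, he, h⟩ := IsFractionRing.div_surjective (Γ(d.pt, ⊤) ⧸ q.asIdeal)
      (ψc (φ (MvPolynomial.X m)) : q.asIdeal.ResidueField)
    obtain ⟨a, rfl⟩ := Ideal.Quotient.mk_surjective a
    obtain ⟨e, rfl⟩ := Ideal.Quotient.mk_surjective e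
    obtain ⟨k₁, a', rfl⟩ := hsurj a
    obtain ⟨k₂, e', rfl⟩ := hsurj e
    obtain ⟨k, u₁, u₂, -⟩ := IsCofilteredOrEmpty.cone_objs k₁ k₂
    refine ⟨k, (E.map u₁).appTop a', (E.map u₂).appTop e', ?_, ?_⟩
    · rw [hπT]
      exact fun hm => nonZeroDivisors.ne_zero he (Ideal.Quotient.eq_zero_iff_mem.mpr hm)
    · rw [hπT, hπT, ← h,
        IsScalarTower.algebraMap_apply Γ(d.pt, ⊤) (Γ(d.pt, ⊤) ⧸ q.asIdeal) q.asIdeal.ResidueField,
        IsScalarTower.algebraMap_apply Γ(d.pt, ⊤) (Γ(d.pt, ⊤) ⧸ q.asIdeal) q.asIdeal.ResidueField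
          ((πT k₁) a')]
      exact mul_div_cancel₀ _ (IsFractionRing.to_map_ne_zero_of_mem_nonZeroDivisors he)
  choose km a e he hcd using hcoord
  obtain ⟨k, hk⟩ := IsCofiltered.inf_objs_exists (Finset.univ.image km)
  have u : ∀ m, k ⟶ km m := fun m => (hk (Finset.mem_image_of_mem km (Finset.mem_univ m))).some
  let β := (πT k)
  let qk : PrimeSpectrum Γ(E.obj k, ⊤) := q.comap β.hom
  let ι : qk.asIdeal.ResidueField →+* q.asIdeal.ResidueField :=
    Ideal.ResidueField.map qk.asIdeal q.asIdeal β.hom rfl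
  have hι : ∀ x, ι (algebraMap _ _ x) = algebraMap _ q.asIdeal.ResidueField (β x) := fun x =>
    Ideal.ResidueField.map_algebraMap _ _ _ _ x
  have hβu : ∀ m x, β ((E.map (u m)).appTop x) = πT (km m) x := fun m x => hπT (u m) x
  obtain ⟨ψ₀, hψ₀⟩ := exists_lift_of_gens
    ((algebraMap Γ(E.obj k, ⊤) qk.asIdeal.ResidueField).comp (α k).hom) ι ψc.hom
    (RingHom.ext fun x => by
      refine (ConcreteCategory.congr_hom hψc x).trans ?_
      rw [← hαk k]
      exact (hι _).symm) φ hφ (fun m => by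
      refine ⟨algebraMap _ _ ((E.map (u m)).appTop (a m)) /
        algebraMap _ _ ((E.map (u m)).appTop (e m)), ?_⟩
      rw [map_div₀, hι, hι, hβu, hβu, ← hcd m, mul_div_cancel_left₀]
      rw [ne_eq, Ideal.algebraMap_residueField_eq_zero]
      exact he m)
  obtain ⟨C, hC, hqC, hCpt⟩ := exists_constructible_points (α k).hom qk ψ₀ hψ₀
  haveI : QuasiSeparatedSpace (D.obj k.left) := H7Lim.quasiSeparatedSpace_of_hom D k.hom
  haveI : QuasiCompact (js k) := QuasiCompact.of_comp (js k) (terminal.from _)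
  refine ⟨k.left, k.hom, js k '' C, ?_, ⟨qk, hqC, ?_⟩, ?_⟩
  · exact IsConstructible.image_of_isOpenEmbedding (js k).isOpenEmbedding
      ((isCompact_range (js k).continuous).isRetrocompact
        (js k).isOpenEmbedding.isOpenMap.isOpen_range) hC
  · exact congrArg (fun m : _ ⟶ D.obj k.left => m q) (hjs k)
  · rintro _ ⟨z, hz, rfl⟩
    obtain ⟨ψ', hψ'⟩ := hCpt z hz
    obtain ⟨τz, hτziso, hτz⟩ := exists_residue_iso (js k) z
    refine ⟨inv (Spec.map τz) ≫ Spec.map (CommRingCat.ofHom ψ') ≫ hO.fromSpec, ?_⟩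
    rw [Category.assoc, IsIso.inv_comp_eq, Category.assoc,
      ← IsAffineOpen.SpecMap_appLE_fromSpec f₀ hW hO hOW, ← Category.assoc, ← Spec.map_comp,
      ← Category.assoc, hτz, Category.assoc, ← hα, ← Category.assoc, ← Spec.map_comp]
    congr 2
    exact CommRingCat.hom_ext hψ'

/-- Having points with equal residue fields descends to a stage. -/
theorem exists_stage_hasPoint [LocallyOfFinitePresentation f₀] (hc : IsLimit c) (i : I)
    [CompactSpace (D.obj i)] [QuasiSeparatedSpace (D.obj i)] (p : D.obj i ⟶ Y₀)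
    (h : ∀ y : c.pt, HasPoint (Y := c.pt) f₀ (c.π.app i ≫ p) y) :
    ∃ (j : I) (φ : j ⟶ i), ∀ z, HasPoint f₀ (D.map φ ≫ p) z := by
  classical
  choose j φ C hC hyC hpt using fun y => exists_stage_constructible f₀ hc i p y (h y)
  haveI := H7Lim.compactSpace_pt_of_isAffineHom hc i
  haveI := H7Lim.quasiSeparatedSpace_pt hc i
  obtain ⟨s, hs⟩ := @IsCompact.elim_finite_subcover c.pt (constructibleTopology _) _ _
    (@CompactSpace.isCompact_univ _ (constructibleTopology _) (H28Top.compactSpace_constr _))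
    (fun y => c.π.app (j y) ⁻¹' C y)
    (fun y => H28Top.isOpen_constr_of_isConstructible ((c.π.app (j y)).isConstructible_preimage (hC y)))
    (fun y _ => Set.mem_iUnion.mpr ⟨y, hyC y⟩)
  obtain ⟨k, φ', hk⟩ := H7Lim.exists_common_stage (κ := s) i
    (fun y k φ' => ∃ ψ : k ⟶ j y.1, ψ ≫ φ y.1 = φ')
    (fun y => ⟨j y.1, φ y.1, 𝟙 _, Category.id_comp _⟩)
    (fun y {_ _} φ' ψ ⟨ψ', h'⟩ => ⟨ψ ≫ ψ', by rw [Category.assoc, h']⟩)
  choose ψ hψ using hk
  haveI := H7Lim.compactSpace_of_hom D φ'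
  haveI := H7Lim.quasiSeparatedSpace_of_hom D φ'
  let U : Set (D.obj k) := ⋃ y : s, D.map (ψ y) ⁻¹' C y.1
  have hU : IsConstructible U := IsConstructible.iUnion fun y =>
    (D.map (ψ y)).isConstructible_preimage (hC y.1)
  obtain ⟨l, θ, hl⟩ := (H7Lim.qcImage_of_isLocallyConstructible
    hU.compl.isLocallyConstructible).exists_preimage_eq_empty hc (i := k) (by
    rw [Set.preimage_compl, Set.compl_empty_iff, Set.eq_univ_iff_forall]
    intro z
    obtain ⟨y, hy, hz⟩ := Set.mem_iUnion₂.1 (hs (Set.mem_univ z))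
    refine Set.mem_iUnion.mpr ⟨⟨y, hy⟩, ?_⟩
    show (c.π.app k ≫ D.map (ψ ⟨y, hy⟩)) z ∈ C y
    rw [c.w]
    exact hz)
  refine ⟨l, θ ≫ φ', fun z => ?_⟩
  have hz : D.map θ z ∈ U := by
    by_contra hn
    exact (Set.eq_empty_iff_forall_notMem.1 hl z) hn
  obtain ⟨y, hy⟩ := Set.mem_iUnion.mp hz
  have := hasPoint_comp f₀ _ (D.map θ) z (hasPoint_comp f₀ _ (D.map (ψ y)) _ (hpt y.1 _ hy))
  rwa [← Category.assoc (D.map (ψ y)), ← D.map_comp, hψ, ← Category.assoc, ← D.map_comp] at this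

end Groth.Agent.H8Props.CompDecomp
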