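import Mathlib

/-! Points of finitely presented algebras with values in residue fields. -/

set_option autoImplicit false

universe u

open TopologicalSpace Topology

namespace Groth.Agent.H8Props.CompDecomp

variable {A₀ B₀ : Type u} [CommRing A₀] [CommRing B₀] [Algebra A₀ B₀]

/-- A point with coordinates in a subfield comes from that subfield. -/
theorem exists_lift_of_gens {K L : Type u} [Field K] [Field L] (α : A₀ →+* K) (ι : K →+* L)
    (ψ : B₀ →+* L) (hψ : ψ.comp (algebraMap A₀ B₀) = ι.comp α) {n : ℕ}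
    (φ : MvPolynomial (Fin n) A₀ →ₐ[A₀] B₀) (hφ : Function.Surjective φ)
    (hgen : ∀ i, ψ (φ (MvPolynomial.X i)) ∈ ι.range) :
    ∃ ψ₀ : B₀ →+* K, ψ₀.comp (algebraMap A₀ B₀) = α := by
  have hall : ∀ b, ψ b ∈ ι.range := by
    intro b
    obtain ⟨P, rfl⟩ := hφ b
    induction P using MvPolynomial.induction_on with
    | C a =>
      refine ⟨α a, ?_⟩
      rw [show (MvPolynomial.C a : MvPolynomial (Fin n) A₀) = algebraMap A₀ _ a from rfl,
        AlgHom.commutes]
      exact (RingHom.congr_fun hψ a).symm
    | add p q hp hq => rw [map_add, map_add]; exact ι.range.add_mem hp hq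
    | mul_X p i hp => rw [map_mul, map_mul]; exact ι.range.mul_mem hp (hgen i)
  let e := RingEquiv.ofLeftInverse (Function.leftInverse_invFun ι.injective)
  refine ⟨e.symm.toRingHom.comp (ψ.codRestrict ι.range hall), RingHom.ext fun a => ?_⟩
  apply ι.injective
  exact (congrArg Subtype.val (e.apply_symm_apply ⟨ψ (algebraMap A₀ B₀ a), hall _⟩)).trans
    (RingHom.congr_fun hψ a)

variable [Algebra.FinitePresentation A₀ B₀]

/-- The primes at which a finitely presented algebra has a residue valued point contain a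
constructible neighbourhood of each of them. -/
theorem exists_constructible_points {A : Type u} [CommRing A] (α : A₀ →+* A) (p : PrimeSpectrum A)
    (ψ : B₀ →+* p.asIdeal.ResidueField)
    (hψ : ψ.comp (algebraMap A₀ B₀) = (algebraMap A p.asIdeal.ResidueField).comp α) :
    ∃ C : Set (PrimeSpectrum A), IsConstructible C ∧ p ∈ C ∧
      ∀ q ∈ C, ∃ ψ' : B₀ →+* q.asIdeal.ResidueField,
        ψ'.comp (algebraMap A₀ B₀) = (algebraMap A q.asIdeal.ResidueField).comp α := by
  classical
  obtain ⟨n, φ, hφ, G, hG⟩ := Algebra.FinitePresentation.out (R := A₀) (A := B₀)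
  have hfrac : ∀ i, ∃ a d : A, d ∉ p.asIdeal ∧
      algebraMap A p.asIdeal.ResidueField d * ψ (φ (MvPolynomial.X i)) =
        algebraMap A p.asIdeal.ResidueField a := fun i => by
    obtain ⟨a, d, hd, e⟩ := IsFractionRing.div_surjective (A ⧸ p.asIdeal) (ψ (φ (MvPolynomial.X i)))
    obtain ⟨a, rfl⟩ := Ideal.Quotient.mk_surjective a
    obtain ⟨d, rfl⟩ := Ideal.Quotient.mk_surjective d
    refine ⟨a, d, fun h => nonZeroDivisors.ne_zero hd (Ideal.Quotient.eq_zero_iff_mem.mpr h), ?_⟩
    rw [← e, IsScalarTower.algebraMap_apply A (A ⧸ p.asIdeal) p.asIdeal.ResidueField,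
      IsScalarTower.algebraMap_apply A (A ⧸ p.asIdeal) p.asIdeal.ResidueField a]
    exact mul_div_cancel₀ _ (IsFractionRing.to_map_ne_zero_of_mem_nonZeroDivisors hd)
  choose a d hd hda using hfrac
  let h := ∏ i, d i
  have hh : h ∉ p.asIdeal := fun hm => by
    obtain ⟨i, -, hi⟩ := p.2.prod_mem_iff.mp hm
    exact hd i hi
  have hdu : ∀ i, IsUnit (algebraMap A (Localization.Away h) (d i)) := fun i =>
    isUnit_of_dvd_unit (map_dvd _ (Finset.dvd_prod_of_mem d (Finset.mem_univ i)))
      (IsLocalization.Away.algebraMap_isUnit h)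
  let θ : MvPolynomial (Fin n) A₀ →+* Localization.Away h :=
    MvPolynomial.eval₂Hom ((algebraMap A (Localization.Away h)).comp α)
      fun i => algebraMap A _ (a i) * ↑(hdu i).unit⁻¹
  have hev : ∀ q : PrimeSpectrum A, h ∉ q.asIdeal →
      ∃ ev : Localization.Away h →+* q.asIdeal.ResidueField,
        ev.comp (algebraMap A _) = algebraMap A _ := fun q hq => by
    have hu : IsUnit (algebraMap A q.asIdeal.ResidueField h) := by
      rw [isUnit_iff_ne_zero, ne_eq, Ideal.algebraMap_residueField_eq_zero]
      exact hq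
    exact ⟨IsLocalization.Away.lift h hu, IsLocalization.Away.lift_comp h hu⟩
  choose c hc using fun g : G => IsLocalization.surj (Submonoid.powers h) (θ g.1)
  refine ⟨(PrimeSpectrum.basicOpen h : Set (PrimeSpectrum A)) ∩
    PrimeSpectrum.zeroLocus (Set.range fun g : G => (c g).1), ?_, ⟨hh, ?_⟩, ?_⟩
  · refine PrimeSpectrum.isConstructible_basicOpen.inter ?_
    have he : PrimeSpectrum.zeroLocus (Set.range fun g : G => (c g).1) =
        ⋂ g : G, ((PrimeSpectrum.basicOpen (c g).1 : Set (PrimeSpectrum A)))ᶜ := by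
      simp_rw [PrimeSpectrum.basicOpen_eq_zeroLocus_compl, compl_compl]
      rw [← PrimeSpectrum.zeroLocus_iUnion, ← Set.iUnion_singleton_eq_range]
    rw [he]
    exact IsConstructible.iInter fun g => PrimeSpectrum.isConstructible_basicOpen.compl
  · rintro _ ⟨g, rfl⟩
    obtain ⟨ev, hev'⟩ := hev p hh
    have hθ : ev.comp θ = ψ.comp φ.toRingHom := by
      refine MvPolynomial.ringHom_ext (fun x => ?_) fun i => ?_
      · simp only [θ, RingHom.comp_apply, MvPolynomial.eval₂Hom_C]
        rw [show ev (algebraMap A _ (α x)) = algebraMap A _ (α x) from RingHom.congr_fun hev' _]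
        rw [show (MvPolynomial.C x : MvPolynomial (Fin n) A₀) = algebraMap A₀ _ x from rfl,
          show φ.toRingHom (algebraMap A₀ _ x) = algebraMap A₀ B₀ x from φ.commutes x]
        exact (RingHom.congr_fun hψ x).symm
      · simp only [θ, RingHom.comp_apply, MvPolynomial.eval₂Hom_X', map_mul]
        have h1 : ev (algebraMap A _ (d i)) * ev ↑(hdu i).unit⁻¹ = 1 := by
          rw [← map_mul, IsUnit.mul_val_inv, map_one]
        rw [show ev (algebraMap A _ (a i)) = algebraMap A _ (a i) from RingHom.congr_fun hev' _,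
          ← hda i, ← show ev (algebraMap A _ (d i)) = algebraMap A _ (d i) from
            RingHom.congr_fun hev' _]
        show _ = ψ (φ (MvPolynomial.X i))
        rw [mul_comm (ev (algebraMap A _ (d i))) _, mul_assoc, h1, mul_one]
    have h0 : φ g.1 = 0 := by
      have : g.1 ∈ RingHom.ker φ.toRingHom := hG ▸ Ideal.subset_span g.2
      exact this
    have := congrArg ev (hc g)
    rw [map_mul, show ev (θ g.1) = ψ (φ g.1) from RingHom.congr_fun hθ g.1, h0, map_zero,
      zero_mul, show ev (algebraMap A _ (c g).1) = algebraMap A _ (c g).1 from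
        RingHom.congr_fun hev' _, eq_comm, Ideal.algebraMap_residueField_eq_zero] at this
    exact this
  · rintro q ⟨hq, hqz⟩
    obtain ⟨ev, hev'⟩ := hev q hq
    have hker : RingHom.ker φ.toRingHom ≤ RingHom.ker (ev.comp θ) := by
      rw [← hG, Ideal.span_le]
      intro g hg
      have := congrArg ev (hc ⟨g, hg⟩)
      rw [map_mul, show ev (algebraMap A _ (c ⟨g, hg⟩).1) = algebraMap A _ (c ⟨g, hg⟩).1 from
        RingHom.congr_fun hev' _,
        show algebraMap A q.asIdeal.ResidueField (c ⟨g, hg⟩).1 = 0 from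
          Ideal.algebraMap_residueField_eq_zero.mpr (hqz ⟨⟨g, hg⟩, rfl⟩)] at this
      refine (mul_eq_zero.mp this).resolve_right ?_
      exact ((IsLocalization.map_units (Localization.Away h) (c ⟨g, hg⟩).2).map ev).ne_zero
    refine ⟨φ.toRingHom.liftOfRightInverse _ (Function.rightInverse_surjInv hφ) ⟨ev.comp θ, hker⟩,
      RingHom.ext fun x => ?_⟩
    have hx := RingHom.liftOfRightInverse_comp_apply φ.toRingHom _ (Function.rightInverse_surjInv hφ)
      ⟨ev.comp θ, hker⟩ (MvPolynomial.C x)
    rw [show φ.toRingHom (MvPolynomial.C x) = algebraMap A₀ B₀ x from φ.commutes x] at hx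
    refine hx.trans ?_
    show ev (θ (MvPolynomial.C x)) = _
    simp only [θ, MvPolynomial.eval₂Hom_C]
    exact RingHom.congr_fun hev' _

end Groth.Agent.H8Props.CompDecomp
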